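-- KALT (S0747) package [RED2]: the non-Sylow case (orbit lengths mod p).
import Mathlib
import Cfsg.Agent.Lib.Helper19.KAlt.Defs
import Cfsg.Agent.Lib.Helper75.LW.All

set_option autoImplicit false

namespace Cfsg.Agent.Lib.Helper29.KAlt

open Cfsg.Agent.Lib.Helper75.LW Cfsg.Agent.Lib.Helper19.KAlt Equiv

universe u

/-- A proper subgroup `Q` of a finite `p`-group `P` is properly contained in a subgroup of `P`
normalizing it. -/
theorem exists_normalizing_pgroup {Γ : Type u} [Group Γ] [Finite Γ] {p : ℕ} [Fact p.Prime]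
    (Q P : Subgroup Γ) (hP : IsPGroup p P) (hQP : Q ≤ P) (hlt : Nat.card Q < Nat.card P) :
    ∃ R : Subgroup Γ, R ≤ P ∧ Q ≤ R ∧ Nat.card Q < Nat.card R ∧
      R ≤ Subgroup.normalizer (Q : Set Γ) := by
  have hnil : Group.IsNilpotent ↥P := hP.isNilpotent
  have hne : Q.subgroupOf P ≠ ⊤ := by
    intro h
    rw [Subgroup.subgroupOf_eq_top] at h
    have := Subgroup.card_le_of_le h
    omega
  have hnc := normalizerCondition_of_isNilpotent (G := ↥P) (Q.subgroupOf P)
    (lt_top_iff_ne_top.2 hne)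
  obtain ⟨x, hxN, hxQ⟩ := SetLike.exists_of_lt hnc
  refine ⟨(Subgroup.normalizer ((Q.subgroupOf P : Subgroup ↥P) : Set ↥P)).map P.subtype,
    Subgroup.map_subtype_le _, ?_, ?_, ?_⟩
  · intro q hq
    exact ⟨⟨q, hQP hq⟩, Subgroup.le_normalizer (Subgroup.mem_subgroupOf.2 hq), rfl⟩
  · by_contra hcon
    have hle : Q ≤ (Subgroup.normalizer ((Q.subgroupOf P : Subgroup ↥P) : Set ↥P)).map
        P.subtype := by
      intro q hq
      exact ⟨⟨q, hQP hq⟩, Subgroup.le_normalizer (Subgroup.mem_subgroupOf.2 hq), rfl⟩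
    have heq := Subgroup.eq_of_le_of_card_ge hle (not_lt.1 hcon)
    apply hxQ
    rw [Subgroup.mem_subgroupOf, heq]
    exact ⟨x, hxN, rfl⟩
  · rintro _ ⟨y, hy, rfl⟩
    rw [Subgroup.mem_normalizer_iff]
    rw [SetLike.mem_coe, Subgroup.mem_normalizer_iff] at hy
    intro h
    constructor
    · intro hh
      have := (hy ⟨h, hQP hh⟩).1 (Subgroup.mem_subgroupOf.2 hh)
      exact Subgroup.mem_subgroupOf.1 this
    · intro hh
      have hhP : h ∈ P := by
        have h1 : P.subtype y * h * (P.subtype y)⁻¹ ∈ P := hQP hh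
        have e : h = (P.subtype y)⁻¹ * (P.subtype y * h * (P.subtype y)⁻¹) * P.subtype y := by
          group
        rw [e]
        exact P.mul_mem (P.mul_mem (P.inv_mem y.2) h1) y.2
      have := (hy ⟨h, hhP⟩).2 (Subgroup.mem_subgroupOf.2 hh)
      exact Subgroup.mem_subgroupOf.1 this

/-- A `p`-subgroup `Q` of `H` which is smaller than another `p`-subgroup of `H` is properly
contained in a `p`-subgroup of `H` normalizing it. -/
theorem exists_normalizing_of_card_lt {Γ : Type u} [Group Γ] [Finite Γ] {p : ℕ} [Fact p.Prime]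
    (H Q R : Subgroup Γ) (hQ : IsPGroup p Q) (hR : IsPGroup p R) (hQH : Q ≤ H) (hRH : R ≤ H)
    (hlt : Nat.card Q < Nat.card R) :
    ∃ R' : Subgroup Γ, R' ≤ H ∧ IsPGroup p R' ∧ Nat.card Q < Nat.card R' ∧
      R' ≤ Subgroup.normalizer (Q : Set Γ) := by
  obtain ⟨P, hP⟩ := (hQ.comap_subtype (K := H)).exists_le_sylow
  obtain ⟨P', hP'⟩ := (hR.comap_subtype (K := H)).exists_le_sylow
  have hPp : IsPGroup p ((P : Subgroup ↥H).map H.subtype) := P.isPGroup'.map _
  have hQP : Q ≤ (P : Subgroup ↥H).map H.subtype := by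
    intro q hq
    exact ⟨⟨q, hQH hq⟩, hP (Subgroup.mem_subgroupOf.2 hq), rfl⟩
  have hc1 : Nat.card ((P : Subgroup ↥H).map H.subtype) = Nat.card (P : Subgroup ↥H) :=
    Subgroup.card_map_of_injective H.subtype_injective
  have hc2 : Nat.card R = Nat.card (R.subgroupOf H) :=
    Nat.card_congr (Subgroup.subgroupOfEquivOfLe hRH).symm.toEquiv
  have hc3 : Nat.card (R.subgroupOf H) ≤ Nat.card (P' : Subgroup ↥H) := Subgroup.card_le_of_le hP'
  have hc4 : Nat.card (P' : Subgroup ↥H) = Nat.card (P : Subgroup ↥H) := by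
    rw [P'.card_eq_multiplicity, P.card_eq_multiplicity]
  obtain ⟨R', hR'P, -, hcard, hnorm⟩ := exists_normalizing_pgroup Q _ hPp hQP (by omega)
  exact ⟨R', hR'P.trans (Subgroup.map_subtype_le _), hPp.to_le hR'P, hcard, hnorm⟩

/-- Transport of a `p`-subgroup of a `k`-point stabiliser to any other `k`-set. -/
theorem exists_conj_pgroup {α : Type u} [Fintype α] [DecidableEq α] (G : Subgroup (Perm α))
    (k p : ℕ) (hT : HT G k) (L L' : Finset α) (hL : L.card = k) (hL' : L'.card = k)
    (R : Subgroup (Perm α)) (hRL : R ≤ PS G L) (hRp : IsPGroup p R) :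
    ∃ R' : Subgroup (Perm α), R' ≤ PS G L' ∧ IsPGroup p R' ∧ Nat.card R' = Nat.card R := by
  classical
  let e : ↥L ≃ ↥L' := Finset.equivOfCardEq (hL.trans hL'.symm)
  let φ : α → α := fun a => if h : a ∈ L then (e ⟨a, h⟩ : α) else a
  have hinj : Set.InjOn φ (L : Set α) := by
    intro a ha b hb hab
    have ha' : a ∈ L := ha
    have hb' : b ∈ L := hb
    simp only [φ, dif_pos ha', dif_pos hb'] at hab
    have := e.injective (Subtype.ext hab)
    exact congrArg Subtype.val this
  obtain ⟨g, hgG, hg⟩ := allExt G k L φ hL hT hinj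
  refine ⟨R.map (MulAut.conj g).toMonoidHom, ?_, hRp.map _, ?_⟩
  · rintro _ ⟨r, hr, rfl⟩
    have hr' := hRL hr
    refine ⟨G.mul_mem (G.mul_mem hgG hr'.1) (G.inv_mem hgG), fun b hb => ?_⟩
    obtain ⟨⟨a, ha⟩, hab⟩ := e.surjective ⟨b, hb⟩
    have hb' : b = g a := by
      rw [hg a ha]
      simp only [φ, dif_pos ha]
      exact (congrArg Subtype.val hab).symm
    show (g * r * g⁻¹) b = b
    rw [hb']
    simp [hr'.2 a ha]
  · exact Subgroup.card_map_of_injective (MulAut.conj g).injective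

/-- An element normalizing `Q` preserves the fixed-point set of `Q`. -/
theorem fix_of_mem_normalizer {α : Type u} (Q : Subgroup (Perm α)) (F : Finset α)
    (hF : ∀ a, a ∈ F ↔ ∀ q ∈ Q, q a = a) (g : Perm α)
    (hg : g ∈ Subgroup.normalizer (Q : Set (Perm α))) (a : α) : g a ∈ F ↔ a ∈ F := by
  rw [Subgroup.mem_normalizer_iff] at hg
  rw [hF, hF]
  constructor
  · intro h q hq
    have h1 := h _ ((hg q).1 hq)
    have h2 : (g * q * g⁻¹) (g a) = g (q a) := by simp
    rw [h2] at h1
    exact g.injective h1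
  · intro h q hq
    have h1 : g⁻¹ * q * g ∈ Q := by
      rw [hg (g⁻¹ * q * g)]
      have e : g * (g⁻¹ * q * g) * g⁻¹ = q := by group
      rw [e]
      exact hq
    have h2 := h _ h1
    have h3 : (g⁻¹ * q * g) a = g⁻¹ (q (g a)) := by simp
    rw [h3] at h2
    have h4 := congrArg g h2
    simpa using h4

/-- **[RED2]** -/
theorem pkgRed2 : PkgRed2.{u} := by
  intro α _ _ G k p Q F hM hT hex
  obtain ⟨L, hL, R, hRL, hRp, hQR⟩ := hex
  haveI : Fact p.Prime := ⟨hM.prime⟩
  intro A hAF hA u v hu hv huA hvA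
  classical
  -- a larger `p`-subgroup normalizing `Q` and fixing `insert w A` pointwise
  have key : ∀ w ∈ F, w ∉ A → ∃ Rw : Subgroup (Perm α), Rw ≤ PS G (insert w A) ∧
      IsPGroup p Rw ∧ Nat.card Q < Nat.card Rw ∧
      Rw ≤ Subgroup.normalizer (Q : Set (Perm α)) := by
    intro w hw hwA
    have hc : (insert w A).card = k := by rw [Finset.card_insert_of_notMem hwA]; exact hA
    obtain ⟨R', hR'L, hR'p, hR'c⟩ := exists_conj_pgroup G k p hT L (insert w A) hL hc R hRL hRp
    have hQL : Q ≤ PS G (insert w A) := by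
      intro q hq
      refine ⟨hM.le hq, fun a ha => ?_⟩
      have haF : a ∈ F := by
        rcases Finset.mem_insert.1 ha with rfl | ha
        · exact hw
        · exact hAF ha
      exact (hM.fix a).1 haF q hq
    exact exists_normalizing_of_card_lt (PS G (insert w A)) Q R' hM.pgrp hR'p hQL hR'L
      (by omega)
  obtain ⟨Ru, hRuL, hRup, hRuc, hRun⟩ := key u hu huA
  obtain ⟨Rv, hRvL, hRvp, hRvc, hRvn⟩ := key v hv hvA
  -- fixed points of `Ru`, `Rv`
  have hfix : ∀ (w : α) (Rw : Subgroup (Perm α)), w ∉ A → Rw ≤ PS G (insert w A) →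
      IsPGroup p Rw → Nat.card Q < Nat.card Rw → ∀ o : α, (∀ r ∈ Rw, r o = o) →
      o ∈ insert w A := by
    intro w Rw hwA hRwL hRwp hRwc o ho
    by_contra hno
    have h1 := hM.max Rw (fun r hr => (hRwL hr).1) hRwp ⟨insert o (insert w A), by
      rw [Finset.card_insert_of_notMem hno, Finset.card_insert_of_notMem hwA, hA], by
      intro r hr a ha
      rcases Finset.mem_insert.1 ha with rfl | ha
      · exact ho r hr
      · exact (hRwL hr).2 a ha⟩
    omega
  -- the group `N`
  obtain ⟨N, hNdef⟩ : ∃ N : Subgroup (Perm α),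
      N = PS G A ⊓ Subgroup.normalizer (Q : Set (Perm α)) := ⟨_, rfl⟩
  have hRuN : Ru ≤ N := by
    intro r hr
    rw [hNdef]
    exact ⟨⟨(hRuL hr).1, fun a ha => (hRuL hr).2 a (Finset.mem_insert_of_mem ha)⟩, hRun hr⟩
  have hRvN : Rv ≤ N := by
    intro r hr
    rw [hNdef]
    exact ⟨⟨(hRvL hr).1, fun a ha => (hRvL hr).2 a (Finset.mem_insert_of_mem ha)⟩, hRvn hr⟩
  have hNA : ∀ n ∈ N, ∀ a ∈ A, n a = a := by
    intro n hn
    rw [hNdef] at hn
    exact hn.1.2
  have hOA : ∀ o : ↥(MulAction.orbit N u), (o : α) ∉ A := by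
    rintro ⟨o, n, rfl⟩ hoA
    have h1 : (n : Perm α) ((n : Perm α) u) = (n : Perm α) u := hNA n n.2 _ hoA
    have h2 : (n : Perm α) u = u := (n : Perm α).injective h1
    have h3 : (n : Perm α) u ∈ A := hoA
    rw [h2] at h3
    exact huA h3
  have hvO : v ∈ MulAction.orbit N u := by
    by_contra hvO
    have hp1 : IsPGroup p ↥(Ru.subgroupOf N) := hRup.comap_subtype
    have hp2 : IsPGroup p ↥(Rv.subgroupOf N) := hRvp.comap_subtype
    have c1 := hp1.card_modEq_card_fixedPoints ↥(MulAction.orbit N u)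
    have c2 := hp2.card_modEq_card_fixedPoints ↥(MulAction.orbit N u)
    have f1 : MulAction.fixedPoints ↥(Ru.subgroupOf N) ↥(MulAction.orbit N u) =
        {⟨u, MulAction.mem_orbit_self u⟩} := by
      ext o
      rw [MulAction.mem_fixedPoints, Set.mem_singleton_iff]
      constructor
      · intro ho
        have h1 : (o : α) ∈ insert u A := by
          apply hfix u Ru huA hRuL hRup hRuc
          intro r hr
          have := ho ⟨⟨r, hRuN hr⟩, Subgroup.mem_subgroupOf.2 hr⟩
          exact congrArg Subtype.val this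
        rcases Finset.mem_insert.1 h1 with h1 | h1
        · exact Subtype.ext h1
        · exact absurd h1 (hOA o)
      · rintro rfl s
        apply Subtype.ext
        show ((s : ↥N) : Perm α) u = u
        have hs : ((s : ↥N) : Perm α) ∈ Ru := Subgroup.mem_subgroupOf.1 s.2
        exact (hRuL hs).2 u (Finset.mem_insert_self u A)
    have f2 : MulAction.fixedPoints ↥(Rv.subgroupOf N) ↥(MulAction.orbit N u) = ∅ := by
      ext o
      rw [MulAction.mem_fixedPoints]
      simp only [Set.mem_empty_iff_false, iff_false]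
      intro ho
      have h1 : (o : α) ∈ insert v A := by
        apply hfix v Rv hvA hRvL hRvp hRvc
        intro r hr
        have := ho ⟨⟨r, hRvN hr⟩, Subgroup.mem_subgroupOf.2 hr⟩
        exact congrArg Subtype.val this
      rcases Finset.mem_insert.1 h1 with h1 | h1
      · apply hvO
        rw [← h1]
        exact o.2
      · exact absurd h1 (hOA o)
    rw [f1] at c1
    rw [f2] at c2
    have e1 : Nat.card (({⟨u, MulAction.mem_orbit_self u⟩} : Set ↥(MulAction.orbit N u))) = 1 := by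
      simp
    have e2 : Nat.card ((∅ : Set ↥(MulAction.orbit N u))) = 0 := by
      simp
    rw [e1] at c1
    rw [e2] at c2
    have h3 : (1 : ℕ) ≡ 0 [MOD p] := c1.symm.trans c2
    have h4 : p ∣ 1 := (Nat.modEq_zero_iff_dvd.1 h3)
    exact hM.prime.one_lt.ne' (Nat.dvd_one.1 h4)
  obtain ⟨n, hn⟩ := hvO
  have hnN : (n : Perm α) ∈ PS G A ⊓ Subgroup.normalizer (Q : Set (Perm α)) := by
    rw [← hNdef]
    exact n.2
  refine ⟨(n : Perm α), hnN.1.1, fun a => fix_of_mem_normalizer Q F hM.fix _ hnN.2 a,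
    hnN.1.2, hn⟩

end Cfsg.Agent.Lib.Helper29.KAlt
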